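import Groth.Agent.AlgSpLib.UnivClosed
import Groth.Agent.AlgSpLib.RepGlue
import Groth.Agent.AlgSpLib.FpqcLocalRep
import Groth.Agent.AlgSpFin.ImmersionTop
import Groth.Agent.AlgSpFin.Misc5
import Groth.Agent.AlgStLib.SepRep
import Groth.Prelude.Def_AlgSpInf
import Groth.Prelude.Def_AlgSp4

/-!
Topological properties of morphisms of thickenings of algebraic spaces.
-/

set_option autoImplicit false
set_option backward.isDefEq.respectTransparency.types false

universe u

open CategoryTheory CategoryTheory.Limits AlgebraicGeometry Opposite AlgSp Topology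

namespace Groth.Agent.AlgSpThickTop

open Groth.Agent.AlgSpLib

variable {S : Scheme.{u}}

theorem mono_of_thick {X Z : Sp S} {k : X ⟶ Z} (hk : IsThickMor k) : Mono k :=
  mono_of_repWith hk fun A B g hg => by
    haveI : IsClosedImmersion g := hg.1
    infer_instance

theorem repWith_thick_comp {X Y Z : Sp S} {k : X ⟶ Y} {l : Y ⟶ Z} (hk : IsThickMor k) (hl : IsThickMor l) :
    IsThickMor (k ≫ l) := by
  haveI : (thick.{u}).IsStableUnderComposition := ⟨fun f g hf hg => by
    obtain ⟨hf₁, hf₂⟩ := hf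
    obtain ⟨hg₁, hg₂⟩ := hg
    haveI := hf₁; haveI := hf₂; haveI := hg₁; haveI := hg₂
    exact ⟨inferInstance, inferInstance⟩⟩
  exact repWith_comp hk hl

/-- A thickening is a homeomorphism on points. -/
theorem isHomeomorph_thick {X Z : Sp S} (hZ : IsAlgSpace Z) {k : X ⟶ Z} (hk : IsThickMor k) :
    IsHomeomorph (Points.map k) := by
  haveI := mono_of_thick hk
  obtain ⟨V, b, hb, hbs⟩ := hZ.atlas
  obtain ⟨W, snd, fst, sq⟩ := hk.1 b
  have ht : thick snd.left := hk.2 b fst snd sq
  have hinj := Groth.Agent.AlgSpFin.injective_map_of_mono k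
  have hsurj : Function.Surjective (Points.map k) := fun z => by
    obtain ⟨v, rfl⟩ := surjective_ofPt hbs z
    haveI : Surjective snd.left := ht.2
    obtain ⟨w, hw⟩ := snd.left.surjective v
    exact ⟨Points.ofPt fst w, by rw [Points.map_ofPt, sq.w, ofPt_comp, hw]⟩
  have hclosed : IsClosedMap (Points.map k) := fun C hC => by
    rw [← (isQuotientMap_ofPt hb hbs).isClosed_preimage]
    have e : Points.ofPt b ⁻¹' (Points.map k '' C) = snd.left '' (Points.ofPt fst ⁻¹' C) := by
      ext v
      constructor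
      · rintro ⟨c, hc, hcv⟩
        obtain ⟨z, hz, hz'⟩ := exists_point_of_isPullback sq c (Points.ofPt (𝟙 _) v)
          (by rw [hcv, Points.map_ofPt, Category.id_comp])
        obtain ⟨w, rfl⟩ := (surjective_ofPt (repWith_id @Surjective W)) z
        refine ⟨w, ?_, ?_⟩
        · rw [Set.mem_preimage, show Points.ofPt fst w = c by rw [← hz, Points.map_ofPt, Category.id_comp]]
          exact hc
        · have h₁ := congrArg (Points.map b) hz'
          have : Points.ofPt (𝟙 _) (snd.left w) = Points.ofPt (𝟙 ((yon S).obj V)) v := by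
            rw [← hz', Points.map_ofPt, Category.id_comp, ← ofPt_comp, Category.comp_id]
          exact (Points.schemeEquiv V).injective (show Points.ofScheme V (snd.left w) = Points.ofScheme V v from this)
      · rintro ⟨w, hw, rfl⟩
        exact ⟨Points.ofPt fst w, hw, by rw [Points.map_ofPt, sq.w, ofPt_comp]⟩
    rw [e]
    haveI : IsClosedImmersion snd.left := ht.1
    exact snd.left.isClosedEmbedding.isClosedMap _ (hC.preimage (Points.continuous_ofPt fst))
  exact isHomeomorph_iff_continuous_isClosedMap_bijective.2 ⟨Points.continuous_map k, hclosed, hinj, hsurj⟩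

/-- Pullbacks along the composite with a thickening. -/
theorem isPullback_comp_mono {X Y Y' Z P : Sp S} {f : X ⟶ Y} {j : Y ⟶ Y'} [Mono j] {g : Z ⟶ Y}
    {fst : P ⟶ X} {snd : P ⟶ Z} (sq : IsPullback fst snd f g) : IsPullback fst snd (f ≫ j) (g ≫ j) := by
  refine IsPullback.of_isLimit' ⟨by rw [← Category.assoc, sq.w, Category.assoc]⟩ (PullbackCone.IsLimit.mk _
    (fun s => sq.lift s.fst s.snd ((cancel_mono j).1 (by simpa only [Category.assoc] using s.condition)))
    (fun s => sq.lift_fst _ _ _) (fun s => sq.lift_snd _ _ _) (fun s m h₁ h₂ => sq.hom_ext ?_ ?_))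
  · rw [sq.lift_fst]; exact h₁
  · rw [sq.lift_snd]; exact h₂

variable {X X' Y Y' : Sp S} {i : X ⟶ X'} {j : Y ⟶ Y'} {f : X ⟶ Y} {f' : X' ⟶ Y'}

/-- The base change of a thickening. -/
theorem exists_thick_comparison (hi : IsThickMor i) {Z P P' : Sp S} {g : Z ⟶ Y'} {fst : P ⟶ X} {snd : P ⟶ Z}
    {fst' : P' ⟶ X'} {snd' : P' ⟶ Z} (sq : IsPullback fst snd (i ≫ f') g) (sq' : IsPullback fst' snd' f' g) :
    ∃ k : P ⟶ P', k ≫ snd' = snd ∧ k ≫ fst' = fst ≫ i ∧ IsThickMor k := by
  refine ⟨sq'.lift (fst ≫ i) snd (by rw [Category.assoc]; exact sq.w), sq'.lift_snd _ _ _, sq'.lift_fst _ _ _, ?_⟩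
  refine repWith_baseChange (fst := fst) (f := i) (g := fst') ?_ hi
  refine (IsPullback.of_bot ?_ (sq'.lift_fst _ _ _).symm sq'.flip.flip)
  rw [sq'.lift_snd]
  exact sq

/-- Transfer of the base change properties along homeomorphisms. -/
theorem univ_transfer (hX : IsAlgSpace X) (hX' : IsAlgSpace X') (hY : IsAlgSpace Y) (hY' : IsAlgSpace Y')
    (hi : IsThickMor i) (hj : IsThickMor j) (w : i ≫ f' = f ≫ j)
    (Φ : ∀ {A B : Sp S}, (Points A → Points B) → Prop)
    (hΦ : ∀ {A B A' B' : Sp S} (e : Points A' ≃ₜ Points A) (e' : Points B ≃ₜ Points B') (φ : Points A → Points B),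
      Φ φ → Φ (fun x => e' (φ (e x)))) :
    UnivSp (fun _ _ k => Φ (Points.map k)) f ↔ UnivSp (fun _ _ k => Φ (Points.map k)) f' := by
  haveI := mono_of_thick hj
  constructor
  · intro H Z P' hZ g fst' snd' sq'
    have sZ := IsPullback.of_hasPullback j g
    have hZ₀ : IsAlgSpace (pullback j g) := isAlgSpace_of_isPullback sZ hY hZ hY'
    have s₀ := IsPullback.of_hasPullback f (pullback.fst j g)
    have h₀ := H hZ₀ _ _ _ s₀
    have s₁ : IsPullback (pullback.fst f (pullback.fst j g)) (pullback.snd f (pullback.fst j g) ≫ pullback.snd j g)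
        (i ≫ f') g := by
      rw [w]
      exact s₀.paste_vert sZ
    obtain ⟨k, hk, -, hkt⟩ := exists_thick_comparison hi s₁ sq'
    have hm : IsThickMor (pullback.snd j g) := repWith_baseChange sZ hj
    let e := (isHomeomorph_thick (isAlgSpace_of_isPullback sq' hX' hZ hY') hkt).homeomorph
    let e' := (isHomeomorph_thick hZ hm).homeomorph
    have heq : Points.map snd' = fun x => e' (Points.map (pullback.snd f (pullback.fst j g)) (e.symm x)) := by
      funext x
      show _ = Points.map (pullback.snd j g) (Points.map (pullback.snd f (pullback.fst j g)) (e.symm x))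
      rw [← Points.map_comp, ← hk, Points.map_comp]
      exact congrArg _ (e.apply_symm_apply x).symm
    show Φ (Points.map snd')
    rw [heq]
    exact hΦ e.symm e' _ h₀
  · intro H Z P hZ g fst snd sq
    have s₁ : IsPullback fst snd (i ≫ f') (g ≫ j) := by
      rw [w]
      exact isPullback_comp_mono sq
    have sq' := IsPullback.of_hasPullback f' (g ≫ j)
    obtain ⟨k, hk, -, hkt⟩ := exists_thick_comparison hi s₁ sq'
    let e := (isHomeomorph_thick (isAlgSpace_of_isPullback sq' hX' hZ hY') hkt).homeomorph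
    have heq : Points.map snd = fun x => Homeomorph.refl (Points Z) (Points.map (pullback.snd f' (g ≫ j)) (e x)) := by
      funext x
      show _ = Points.map (pullback.snd f' (g ≫ j)) (Points.map k x)
      rw [← Points.map_comp, hk]
    show Φ (Points.map snd)
    rw [heq]
    exact hΦ e (Homeomorph.refl _) _ (H hZ _ _ _ sq')

theorem univClosed_iff (hX : IsAlgSpace X) (hX' : IsAlgSpace X') (hY : IsAlgSpace Y) (hY' : IsAlgSpace Y')
    (hi : IsThickMor i) (hj : IsThickMor j) (w : i ≫ f' = f ≫ j) : IsUnivClosedMor f ↔ IsUnivClosedMor f' :=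
  univ_transfer hX hX' hY hY' hi hj w (fun φ => IsClosedMap φ)
    fun e e' _ h => e'.isClosedMap.comp (h.comp e.isClosedMap)

theorem univOpen_iff (hX : IsAlgSpace X) (hX' : IsAlgSpace X') (hY : IsAlgSpace Y) (hY' : IsAlgSpace Y')
    (hi : IsThickMor i) (hj : IsThickMor j) (w : i ≫ f' = f ≫ j) : IsUnivOpenMor f ↔ IsUnivOpenMor f' :=
  univ_transfer hX hX' hY hY' hi hj w (fun φ => IsOpenMap φ)
    fun e e' _ h => e'.isOpenMap.comp (h.comp e.isOpenMap)

theorem univInjective_iff (hX : IsAlgSpace X) (hX' : IsAlgSpace X') (hY : IsAlgSpace Y) (hY' : IsAlgSpace Y')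
    (hi : IsThickMor i) (hj : IsThickMor j) (w : i ≫ f' = f ≫ j) :
    IsUnivInjectiveMor f ↔ IsUnivInjectiveMor f' :=
  univ_transfer hX hX' hY hY' hi hj w (fun φ => Function.Injective φ)
    fun e e' _ h => e'.injective.comp (h.comp e.injective)

theorem surjective_iff (hX' : IsAlgSpace X') (hY' : IsAlgSpace Y')
    (hi : IsThickMor i) (hj : IsThickMor j) (w : i ≫ f' = f ≫ j) : IsSurjectiveMor f ↔ IsSurjectiveMor f' := by
  have hI := (isHomeomorph_thick hX' hi).bijective
  have hJ := (isHomeomorph_thick hY' hj).bijective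
  have e : Points.map f' ∘ Points.map i = Points.map j ∘ Points.map f := by
    funext x
    simp only [Function.comp_apply, ← Points.map_comp, w]
  constructor
  · intro h
    exact Function.Surjective.of_comp (g := Points.map i) (e ▸ hJ.2.comp h)
  · intro h y
    obtain ⟨x', hx'⟩ := h (Points.map j y)
    obtain ⟨x, rfl⟩ := hI.2 x'
    exact ⟨x, hJ.1 ((congrFun e x).symm.trans hx')⟩

theorem isQuasiCompactSp_of_homeomorph {A B : Sp S} (hA : IsAlgSpace A) (hB : IsAlgSpace B)
    (e : Points A ≃ₜ Points B) (h : IsQuasiCompactSp A) : IsQuasiCompactSp B := by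
  have := (isQuasiCompactSp_iff_compactSpace hA).1 h
  exact (isQuasiCompactSp_iff_compactSpace hB).2 e.compactSpace

theorem quasiCompact_iff (hX : IsAlgSpace X) (hX' : IsAlgSpace X') (hY : IsAlgSpace Y) (hY' : IsAlgSpace Y')
    (hi : IsThickMor i) (hj : IsThickMor j) (w : i ≫ f' = f ≫ j) :
    IsQuasiCompactMor f ↔ IsQuasiCompactMor f' := by
  haveI := mono_of_thick hj
  constructor
  · intro H Z P' hZ hZc g fst' snd' sq'
    have sZ := IsPullback.of_hasPullback j g
    have hZ₀ : IsAlgSpace (pullback j g) := isAlgSpace_of_isPullback sZ hY hZ hY'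
    have hm : IsThickMor (pullback.snd j g) := repWith_baseChange sZ hj
    have hZ₀c : IsQuasiCompactSp (pullback j g) :=
      isQuasiCompactSp_of_homeomorph hZ hZ₀ (isHomeomorph_thick hZ hm).homeomorph.symm hZc
    have s₀ := IsPullback.of_hasPullback f (pullback.fst j g)
    have h₀ := H hZ₀ hZ₀c _ _ _ s₀
    have s₁ : IsPullback (pullback.fst f (pullback.fst j g)) (pullback.snd f (pullback.fst j g) ≫ pullback.snd j g)
        (i ≫ f') g := by
      rw [w]
      exact s₀.paste_vert sZ
    obtain ⟨k, -, -, hkt⟩ := exists_thick_comparison hi s₁ sq'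
    have hP' := isAlgSpace_of_isPullback sq' hX' hZ hY'
    exact isQuasiCompactSp_of_homeomorph (isAlgSpace_of_isPullback s₀ hX hZ₀ hY) hP'
      (isHomeomorph_thick hP' hkt).homeomorph h₀
  · intro H Z P hZ hZc g fst snd sq
    have s₁ : IsPullback fst snd (i ≫ f') (g ≫ j) := by
      rw [w]
      exact isPullback_comp_mono sq
    have sq' := IsPullback.of_hasPullback f' (g ≫ j)
    obtain ⟨k, -, -, hkt⟩ := exists_thick_comparison hi s₁ sq'
    have hP' := isAlgSpace_of_isPullback sq' hX' hZ hY'
    exact isQuasiCompactSp_of_homeomorph hP' (isAlgSpace_of_isPullback sq hX hZ hY)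
      (isHomeomorph_thick hP' hkt).homeomorph.symm (H hZ hZc _ _ _ sq')

/-- The thickening of fibre products of a morphism of thickenings. -/
theorem exists_thick_diagonal (hi : IsThickMor i) (hj : IsThickMor j) (w : i ≫ f' = f ≫ j) :
    ∃ k : pullback f f ⟶ pullback f' f',
      IsThickMor k ∧ i ≫ pullback.diagonal f' = pullback.diagonal f ≫ k := by
  haveI := mono_of_thick hj
  have s : IsPullback (pullback.fst f f) (pullback.snd f f) (i ≫ f') (i ≫ f') := by
    rw [w]
    exact isPullback_comp_mono (IsPullback.of_hasPullback f f)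
  have sM := IsPullback.of_hasPullback f' (i ≫ f')
  obtain ⟨a, ha₁, ha₂, ha⟩ := exists_thick_comparison hi s sM
  have sM' : IsPullback (pullback.snd f' (i ≫ f')) (pullback.fst f' (i ≫ f')) (i ≫ f') f' := sM.flip
  obtain ⟨b, hb₁, hb₂, hb⟩ := exists_thick_comparison hi sM' (IsPullback.of_hasPullback f' f').flip
  refine ⟨a ≫ b, repWith_thick_comp ha hb, ?_⟩
  apply pullback.hom_ext
  · simp only [Category.assoc, pullback.diagonal_fst, Category.comp_id]
    rw [hb₁, ha₂, ← Category.assoc, pullback.diagonal_fst, Category.id_comp]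
  · simp only [Category.assoc, pullback.diagonal_snd, Category.comp_id]
    rw [hb₂, reassoc_of% ha₁, ← Category.assoc, pullback.diagonal_snd, Category.id_comp]

theorem separated_iff (hX : IsAlgSpace X) (hX' : IsAlgSpace X') (hY : IsAlgSpace Y) (hY' : IsAlgSpace Y')
    (hi : IsThickMor i) (hj : IsThickMor j) (w : i ≫ f' = f ≫ j) : IsSeparatedMor f ↔ IsSeparatedMor f' := by
  obtain ⟨k, hk, wk⟩ := exists_thick_diagonal hi hj w
  have hR := isAlgSpace_pullback f f hX hX hY
  have hR' := isAlgSpace_pullback f' f' hX' hX' hY'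
  have e := univClosed_iff hX hX' hR hR' hi hk wk
  exact ⟨fun h => isSeparatedMor_of_diag_univClosed hX' hY' f'
      (e.1 (Groth.Agent.AlgStLib.isProperMor_of_closedImm hX hR h).2.2),
    fun h => isSeparatedMor_of_diag_univClosed hX hY f
      (e.2 (Groth.Agent.AlgStLib.isProperMor_of_closedImm hX' hR' h).2.2)⟩

/-- A representable quasi-compact morphism. -/
theorem repWith_qc_of_isQuasiCompactMor {A B : Sp S} {d : A ⟶ B} (hd : Representable d)
    (h : IsQuasiCompactMor d) : RepWith @QuasiCompact d := by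
  refine repWith_of_rep hd fun T V g fst snd sq => ?_
  exact Groth.Agent.AlgStLib.quasiCompact_of_isQuasiCompactMor snd
    fun Z Z' hZ hZc k fst' snd' sq' => h hZ hZc (k ≫ g) (fst' ≫ fst) snd' (sq'.paste_horiz sq)

theorem quasiSeparated_iff (hX : IsAlgSpace X) (hX' : IsAlgSpace X') (hY : IsAlgSpace Y) (hY' : IsAlgSpace Y')
    (hi : IsThickMor i) (hj : IsThickMor j) (w : i ≫ f' = f ≫ j) :
    IsQuasiSeparatedMor f ↔ IsQuasiSeparatedMor f' := by
  obtain ⟨k, hk, wk⟩ := exists_thick_diagonal hi hj w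
  have hR := isAlgSpace_pullback f f hX hX hY
  have hR' := isAlgSpace_pullback f' f' hX' hX' hY'
  have e := quasiCompact_iff hX hX' hR hR' hi hk wk
  exact ⟨fun h => repWith_qc_of_isQuasiCompactMor (representable_diagonal hX' f')
      (e.1 (Groth.Agent.AlgSpFin.isQuasiCompactMor_of_rep_qc h)),
    fun h => repWith_qc_of_isQuasiCompactMor (representable_diagonal hX f)
      (e.2 (Groth.Agent.AlgSpFin.isQuasiCompactMor_of_rep_qc h))⟩

end Groth.Agent.AlgSpThickTop
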