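import Groth.Agent.AlgSpThickTop.Main
import Groth.Agent.AlgSpFin.OpenSubspace
import Groth.Agent.AlgSpLimDesc.Open

/-!
Open subspaces of thickenings.
-/

set_option autoImplicit false
set_option backward.isDefEq.respectTransparency.types false

universe u

open CategoryTheory CategoryTheory.Limits AlgebraicGeometry Opposite AlgSp Topology

namespace Groth.Agent.AlgSpThickTop

open Groth.Agent.AlgSpLib

variable {S : Scheme.{u}}

theorem range_eq_image_of_isPullback {X X' U U' : Sp S} {i : X ⟶ X'} {u : U ⟶ X} {k : U ⟶ U'} {u' : U' ⟶ X'}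
    (hs : Function.Surjective (Points.map i)) (sq : IsPullback u k i u') :
    Set.range (Points.map u') = Points.map i '' Set.range (Points.map u) := by
  ext x'
  constructor
  · rintro ⟨z, rfl⟩
    obtain ⟨x, hx⟩ := hs (Points.map u' z)
    obtain ⟨y, hy, -⟩ := exists_point_of_isPullback sq x z hx
    exact ⟨x, ⟨y, hy⟩, hx⟩
  · rintro ⟨_, ⟨y, rfl⟩, rfl⟩
    exact ⟨Points.map k y, by rw [← Points.map_comp, ← sq.w, Points.map_comp]⟩

theorem openSubspace_existsUnique {X X' U : Space S} (i : X ⟶ X') (hi : IsThickMor i.hom) (u : U ⟶ X)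
    (hu : RepWith @IsOpenImmersion u.hom) :
    (∃ (U' : Space S) (u' : U' ⟶ X') (k : U ⟶ U'),
      RepWith @IsOpenImmersion u'.hom ∧ IsPullback u.hom k.hom i.hom u'.hom) ∧
    (∀ (U₁ U₂ : Space S) (u₁ : U₁ ⟶ X') (u₂ : U₂ ⟶ X') (k₁ : U ⟶ U₁) (k₂ : U ⟶ U₂),
      RepWith @IsOpenImmersion u₁.hom → IsPullback u.hom k₁.hom i.hom u₁.hom →
      RepWith @IsOpenImmersion u₂.hom → IsPullback u.hom k₂.hom i.hom u₂.hom →
      ∃ e : U₁ ≅ U₂, e.hom ≫ u₂ = u₁) := by
  have hI := isHomeomorph_thick X'.property hi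
  refine ⟨?_, fun U₁ U₂ u₁ u₂ k₁ k₂ h₁ s₁ h₂ s₂ => ?_⟩
  · have hopen : IsOpen (Set.range (Points.map u.hom)) := by
      obtain ⟨V, b, hb, hbs⟩ := X.property.atlas
      rw [← (isQuotientMap_ofPt hb hbs).isOpen_preimage]
      obtain ⟨W, snd, fst, sq⟩ := hu.1 b
      haveI : IsOpenImmersion snd.left := hu.2 b fst snd sq
      have e : Points.ofPt b ⁻¹' Set.range (Points.map u.hom) = Set.range snd.left := by
        ext v
        constructor
        · rintro ⟨c, hc⟩
          obtain ⟨z, -, hz⟩ := exists_point_of_isPullback sq c (Points.ofPt (𝟙 _) v)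
            (by rw [hc, Points.map_ofPt, Category.id_comp])
          obtain ⟨w, rfl⟩ := (surjective_ofPt (repWith_id @Surjective W)) z
          refine ⟨w, (Points.schemeEquiv V).injective ?_⟩
          show Points.ofPt (𝟙 _) (snd.left w) = Points.ofPt (𝟙 ((yon S).obj V)) v
          rw [← hz, Points.map_ofPt, Category.id_comp, ← ofPt_comp, Category.comp_id]
        · rintro ⟨w, rfl⟩
          exact ⟨Points.ofPt fst w, by rw [Points.map_ofPt, sq.w, ofPt_comp]⟩
      rw [e]
      exact snd.left.isOpenEmbedding.isOpen_range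
    obtain ⟨U', u', hu', hr⟩ := Groth.Agent.AlgSpFin.exists_open_subspace X' _ (hI.isOpenMap _ hopen)
    obtain ⟨q, sq⟩ := Groth.Agent.AlgSpLimDesc.isPullback_of_range_preimage (π := i.hom) hu hu' (by
      rw [hr, Set.preimage_image_eq _ hI.injective])
    exact ⟨U', u', ObjectProperty.homMk q, hu', sq⟩
  · obtain ⟨q, sq⟩ := Groth.Agent.AlgSpLimDesc.isPullback_of_range_preimage (π := 𝟙 X'.obj) h₁ h₂ (by
      rw [range_eq_image_of_isPullback hI.surjective s₁, range_eq_image_of_isPullback hI.surjective s₂,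
        show Points.map (𝟙 X'.obj) = id from funext Points.map_id, Set.preimage_id])
    have s : IsPullback u₂.hom (𝟙 _) (𝟙 X'.obj) u₂.hom := IsPullback.of_vert_isIso ⟨by simp⟩
    refine ⟨(ObjectProperty.isoMk _ (sq.isoIsPullback _ _ s)), ?_⟩
    apply InducedCategory.hom_ext
    exact sq.isoIsPullback_hom_fst _ _ s

end Groth.Agent.AlgSpThickTop
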